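import Mathlib
import Cfsg.Agent.Helper77.Br43.PGDefs
import Cfsg.Agent.Helper5.BrPG.W1
import Cfsg.Agent.Helper5.BrPG.W2
import Cfsg.Agent.Helper62.BrPG.W12

/-!
# Theorem PG (S0996, helper77), package W13: the involution count (PG7c).

`PG1b` (`IsBr.conj`), `PG2c`, `PG6c`, `PG7b` are imported from main; `PG4c`, `PG5c`, `PG5d`, `PG6b`,
`PG7a` are explicit hypotheses (`h4c`, `h5c`, `h5d`, `h6b`, `h7a`) in `∀`-closed form.
-/

set_option autoImplicit false
set_option linter.unusedSectionVars false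

namespace Cfsg.Agent.Helper72.BrPG

open Cfsg.Agent.Helper77.BrPG
open Cfsg.Agent.Helper5.BrPG
open Cfsg.Agent.Helper62.BrPG
open scoped Pointwise

universe u

variable {G : Type u} [Group G] [Finite G] {p : ℕ} [Fact p.Prime]

/-- class equation for one class, `Finset` form. -/
theorem W13_card_conj_mul_card_centralizer [Fintype G] [DecidableEq G] (t : G)
    [DecidablePred (IsConj t)] :
    (Finset.univ.filter (fun a => IsConj t a)).card *
      Nat.card (Subgroup.centralizer ({t} : Set G)) = Fintype.card G := by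
  classical
  have h := Finset.card_eq_sum_card_fiberwise (f := fun x : G => x * t * x⁻¹)
    (s := Finset.univ) (t := Finset.univ.filter (fun a => IsConj t a))
    (fun x _ => by
      simp only [Finset.coe_filter, Finset.mem_univ, true_and, Set.mem_ofPred_eq]
      exact isConj_iff.2 ⟨x, rfl⟩)
  rw [Finset.card_univ] at h
  rw [h, Finset.sum_const_nat]
  intro a ha
  obtain ⟨x₀, hx₀⟩ := isConj_iff.1 (Finset.mem_filter.1 ha).2
  have hC : Nat.card (Subgroup.centralizer ({t} : Set G)) =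
      (Finset.univ.filter (fun x : G => x ∈ Subgroup.centralizer ({t} : Set G))).card := by
    rw [Nat.card_eq_fintype_card, Fintype.card_subtype]
  rw [hC]
  refine Finset.card_nbij' (fun x => x₀⁻¹ * x) (fun y => x₀ * y) ?_ ?_ ?_ ?_
  · intro x hx
    have hx' : x * t * x⁻¹ = a := by simpa using hx
    simp only [Finset.coe_filter, Finset.mem_univ, true_and, Set.mem_ofPred_eq]
    rw [Subgroup.mem_centralizer_singleton_iff]
    have : x * t * x⁻¹ = x₀ * t * x₀⁻¹ := by rw [hx', hx₀]
    calc x₀⁻¹ * x * t = x₀⁻¹ * (x * t * x⁻¹) * x := by group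
      _ = x₀⁻¹ * (x₀ * t * x₀⁻¹) * x := by rw [this]
      _ = t * (x₀⁻¹ * x) := by group
  · intro y hy
    have hy' : y ∈ Subgroup.centralizer ({t} : Set G) := by simpa using hy
    rw [Subgroup.mem_centralizer_singleton_iff] at hy'
    simp only [Finset.coe_filter, Finset.mem_univ, true_and, Set.mem_ofPred_eq]
    rw [← hx₀]
    calc x₀ * y * t * (x₀ * y)⁻¹ = x₀ * (y * t) * y⁻¹ * x₀⁻¹ := by group
      _ = x₀ * (t * y) * y⁻¹ * x₀⁻¹ := by rw [hy']
      _ = x₀ * t * x₀⁻¹ := by group
  · intro x _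
    group
  · intro y _
    group

/-- the fixed points of a conjugate. -/
theorem W13_card_fixed_conj (x z : G) :
    Nat.card {Q : Sylow p G // x * z * x⁻¹ ∈ Nz Q} = Nat.card {Q : Sylow p G // z ∈ Nz Q} := by
  refine Nat.card_congr ?_
  refine (Equiv.subtypeEquiv (MulAction.toPerm x : Equiv.Perm (Sylow p G)) ?_).symm
  intro Q
  rw [MulAction.toPerm_apply, mem_Nz_smul_iff]
  have : x⁻¹ * (x * z * x⁻¹) * x = z := by group
  rw [this]

/-- moved points + fixed points = all points. -/
theorem W13_card_moved_add (g : G) :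
    Nat.card {Q : Sylow p G // g • Q ≠ Q} + Nat.card {Q : Sylow p G // g ∈ Nz Q} =
      Nat.card (Sylow p G) := by
  classical
  have : Fintype (Sylow p G) := Fintype.ofFinite _
  have e : {Q : Sylow p G // g ∈ Nz Q} ≃ {Q : Sylow p G // g • Q = Q} :=
    Equiv.subtypeEquivRight (fun Q => mem_Nz_iff g Q)
  rw [Nat.card_congr e]
  simp only [Nat.card_eq_fintype_card]
  rw [Fintype.card_subtype, Fintype.card_subtype, ← Finset.card_univ (α := Sylow p G), add_comm]
  exact Finset.card_filter_add_card_filter_not _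

/-- pure arithmetic of the involution count. -/
theorem W13_arith (p e n S c C T E : ℕ) (hn : 1 ≤ n) (hS : S = 1 + n * p) (hE : E + 1 = p)
    (hT1 : T ≤ (S * S - S) * e) (hT2 : c * (S - (n + 1)) ≤ T) (hcC : c * C = p * e * S)
    (hCE : C ≤ E) (hc : 0 < c) :
    T = (S * S - S) * e ∧ c * (S - (n + 1)) = T ∧ C = E := by
  have h1 : S * S - S = S * (n * p) := by
    rw [hS]
    have : (1 + n * p) * (1 + n * p) = (1 + n * p) * (n * p) + (1 + n * p) := by ring
    rw [this, Nat.add_sub_cancel]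
  have h2 : S - (n + 1) = n * E := by
    rw [hS, ← hE]
    have : 1 + n * (E + 1) = n * E + (n + 1) := by ring
    rw [this, Nat.add_sub_cancel]
  rw [h1] at hT1 ⊢
  rw [h2] at hT2 ⊢
  have h3 : p * e * S ≤ c * E := by
    rw [← hcC]; exact Nat.mul_le_mul_left c hCE
  have h4 : S * (n * p) * e = n * (p * e * S) := by ring
  have h5 : n * (p * e * S) ≤ n * (c * E) := Nat.mul_le_mul_left n h3
  have h6 : n * (c * E) = c * (n * E) := by ring
  have hTeq : T = S * (n * p) * e := le_antisymm hT1 (by rw [h4]; omega)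
  have hceq : c * (n * E) = T := le_antisymm hT2 (by rw [hTeq, h4]; omega)
  refine ⟨hTeq, hceq, ?_⟩
  have h7 : n * (p * e * S) = n * (c * E) := by
    apply le_antisymm h5
    rw [h6, hceq, hTeq, h4]
  have h8 : p * e * S = c * E := Nat.eq_of_mul_eq_mul_left (by omega) h7
  rw [← hcC] at h8
  exact Nat.eq_of_mul_eq_mul_left hc h8

/-- (PG7c) the count: with `t = n + 1`, `t e = p - 1`, an involution `z ∈ E`:
every involution is conjugate to `z`, `C_G(z) = N_G(E)`, and every pair `Q ≠ Q'` has exactly `e`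
involutions mapping `Q` to `Q'`.  Hypotheses `h4c` (PG4c), `h5c` (PG5c), `h5d` (PG5d), `h6b` (PG6b),
`h7a` (PG7a at every Sylow subgroup). -/
theorem IsBr.invol_count {P : Sylow p G} {e n : ℕ} (h : IsBr P e n) (hte : (n + 1) * e = p - 1)
    (h4c : ∀ w : G, w ∈ Nz P → w ∉ (P : Subgroup G) →
      Nat.card {Q : Sylow p G // w ∈ Nz Q} = n + 1)
    (h5c : ∀ Q : Sylow p G, Q ≠ P →
      Nat.card (Subgroup.normalizer ((Ez P Q : Subgroup G) : Set G)) = (n + 1) * e)
    (h5d : ∀ Q : Sylow p G, Q ≠ P → ∀ w : G, w ∈ Ez P Q → w ≠ 1 →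
      Subgroup.centralizer ({w} : Set G) ≤
        Subgroup.normalizer ((Ez P Q : Subgroup G) : Set G))
    (h6b : Nat.card G = p * e * (1 + n * p))
    (h7a : ∀ P' : Sylow p G, IsBr P' e n → ∀ Q' : Sylow p G, Q' ≠ P' →
      Nat.card {g : G // orderOf g = 2 ∧ g • P' = Q'} ≤ e)
    (Q : Sylow p G) (hQ : Q ≠ P) (z : G) (hz : z ∈ Ez P Q) (hz2 : orderOf z = 2) :
    (∀ g : G, orderOf g = 2 → IsConj z g) ∧
    Subgroup.centralizer ({z} : Set G) = Subgroup.normalizer ((Ez P Q : Subgroup G) : Set G) ∧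
    (∀ Q' : Sylow p G, Q' ≠ P → Nat.card {g : G // orderOf g = 2 ∧ g • P = Q'} = e) := by
  classical
  have : Fintype G := Fintype.ofFinite G
  have : Fintype (Sylow p G) := Fintype.ofFinite _
  have hp : p.Prime := Fact.out
  have hS : Nat.card (Sylow p G) = 1 + n * p := h.cardS
  -- basic facts on `z`
  have hz1 : z ≠ 1 := by
    rintro rfl
    rw [orderOf_one] at hz2
    omega
  have hzN : z ∈ Nz P := hz.1
  have hzP : z ∉ (P : Subgroup G) := by
    intro hzP
    have hmem : z ∈ Ez P Q ⊓ (P : Subgroup G) := ⟨hz, hzP⟩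
    rw [Ez_inf_eq_bot P h.cardP Q hQ, Subgroup.mem_bot] at hmem
    exact hz1 hmem
  -- the finsets
  set IF : Finset G := Finset.univ.filter (fun g => orderOf g = 2) with hIF
  set CF : Finset G := Finset.univ.filter (fun g => IsConj z g) with hCF
  set OD : Finset (Sylow p G × Sylow p G) := Finset.univ.filter (fun QQ => QQ.1 ≠ QQ.2) with hOD
  -- PG7b in `Finset` form
  have h7b : ∑ QQ ∈ OD, Nat.card {g : G // orderOf g = 2 ∧ g • QQ.1 = QQ.2} =
      ∑ g ∈ IF, Nat.card {Q : Sylow p G // g • Q ≠ Q} := by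
    have h0 := sum_card_invol (G := G) (p := p)
    have e1 : ({QQ : Sylow p G × Sylow p G | QQ.1 ≠ QQ.2} : Set _) = ↑OD := by
      ext QQ; simp [hOD]
    have e2 : ({g : G | orderOf g = 2} : Set G) = ↑IF := by
      ext g; simp [hIF]
    rw [e1, e2, finsum_mem_coe_finset, finsum_mem_coe_finset] at h0
    exact h0
  -- the number of pairs
  have hODcard : OD.card = Nat.card (Sylow p G) * Nat.card (Sylow p G) - Nat.card (Sylow p G) := by
    have : OD = (Finset.univ : Finset (Sylow p G)).offDiag := by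
      ext QQ; simp [hOD, Finset.mem_offDiag]
    rw [this, Finset.offDiag_card, Finset.card_univ, Nat.card_eq_fintype_card]
  -- upper bound
  have hterm : ∀ QQ ∈ OD, Nat.card {g : G // orderOf g = 2 ∧ g • QQ.1 = QQ.2} ≤ e := by
    intro QQ hQQ
    have hne : QQ.1 ≠ QQ.2 := (Finset.mem_filter.mp hQQ).2
    exact h7a QQ.1 (IsBr.conj h QQ.1) QQ.2 hne.symm
  have hub : ∑ QQ ∈ OD, Nat.card {g : G // orderOf g = 2 ∧ g • QQ.1 = QQ.2} ≤
      (Nat.card (Sylow p G) * Nat.card (Sylow p G) - Nat.card (Sylow p G)) * e := by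
    have := Finset.sum_le_card_nsmul OD _ e hterm
    rw [smul_eq_mul, hODcard] at this
    exact this
  -- the class of `z` consists of involutions
  have hCFsub : CF ⊆ IF := by
    intro g hg
    obtain ⟨c, hc⟩ := isConj_iff.mp (Finset.mem_filter.mp hg).2
    rw [hIF, Finset.mem_filter]
    refine ⟨Finset.mem_univ _, ?_⟩
    have := MulEquiv.orderOf_eq (MulAut.conj c) z
    rw [MulAut.conj_apply, hc] at this
    rw [this, hz2]
  -- moved points of conjugates of `z`
  have hmoved : ∀ g ∈ CF, Nat.card {Q : Sylow p G // g • Q ≠ Q} =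
      Nat.card (Sylow p G) - (n + 1) := by
    intro g hg
    obtain ⟨c, hc⟩ := isConj_iff.mp (Finset.mem_filter.mp hg).2
    have h1 := W13_card_moved_add (p := p) g
    have h2 : Nat.card {Q : Sylow p G // g ∈ Nz Q} = n + 1 := by
      rw [← hc, W13_card_fixed_conj, h4c z hzN hzP]
    omega
  have hlow : CF.card * (Nat.card (Sylow p G) - (n + 1)) ≤
      ∑ g ∈ IF, Nat.card {Q : Sylow p G // g • Q ≠ Q} := by
    rw [← Finset.sum_const_nat hmoved]
    exact Finset.sum_le_sum_of_subset hCFsub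
  -- class equation
  have hclass : CF.card * Nat.card (Subgroup.centralizer ({z} : Set G)) =
      p * e * Nat.card (Sylow p G) := by
    rw [hS, ← h6b]
    have hcl := W13_card_conj_mul_card_centralizer z
    rw [← Nat.card_eq_fintype_card] at hcl
    exact hcl
  have hCle : Subgroup.centralizer ({z} : Set G) ≤
      Subgroup.normalizer ((Ez P Q : Subgroup G) : Set G) := h5d Q hQ z hz hz1
  have hCE : Nat.card (Subgroup.centralizer ({z} : Set G)) ≤ (n + 1) * e := by
    rw [← h5c Q hQ]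
    exact Subgroup.card_le_of_le hCle
  have hcpos : 0 < CF.card := by
    apply Finset.card_pos.mpr
    exact ⟨z, Finset.mem_filter.mpr ⟨Finset.mem_univ _, IsConj.refl z⟩⟩
  have hE1 : (n + 1) * e + 1 = p := by
    have := hp.two_le
    omega
  obtain ⟨hTeq, hceq, hCeq⟩ := W13_arith p e n (Nat.card (Sylow p G)) CF.card
    (Nat.card (Subgroup.centralizer ({z} : Set G)))
    (∑ QQ ∈ OD, Nat.card {g : G // orderOf g = 2 ∧ g • QQ.1 = QQ.2}) ((n + 1) * e)
    h.hn hS hE1 hub (by rw [h7b]; exact hlow) hclass hCE hcpos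
  refine ⟨?_, ?_, ?_⟩
  · -- every involution is conjugate to `z`
    intro g hg
    by_contra hgz
    have hgIF : g ∈ IF \ CF := by
      rw [Finset.mem_sdiff]
      refine ⟨Finset.mem_filter.mpr ⟨Finset.mem_univ _, hg⟩, ?_⟩
      intro hgc
      exact hgz (Finset.mem_filter.mp hgc).2
    have hsplit := Finset.sum_sdiff (f := fun g => Nat.card {Q : Sylow p G // g • Q ≠ Q}) hCFsub
    rw [Finset.sum_const_nat hmoved, hceq, h7b] at hsplit
    have hzero : ∑ g ∈ IF \ CF, Nat.card {Q : Sylow p G // g • Q ≠ Q} = 0 := by omega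
    have hg0 := (Finset.sum_eq_zero_iff.mp hzero) g hgIF
    have hempty : IsEmpty {Q : Sylow p G // g • Q ≠ Q} := by
      rcases Nat.card_eq_zero.mp hg0 with h' | h'
      · exact h'
      · exact absurd (inferInstance : Finite {Q : Sylow p G // g • Q ≠ Q}) (not_finite_iff_infinite.mpr h')
    have hfix : ∀ Q' : Sylow p G, g ∈ Nz Q' := by
      intro Q'
      rw [mem_Nz_iff]
      by_contra hne
      exact hempty.false ⟨Q', hne⟩
    have hg1 := IsBr.eq_one_of_forall_mem h g hfix
    rw [hg1, orderOf_one] at hg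
    omega
  · -- `C_G(z) = N_G(E)`
    apply Subgroup.eq_of_le_of_card_ge hCle
    rw [h5c Q hQ, hCeq]
  · -- every pair has exactly `e` involutions
    intro Q' hQ'
    by_contra hne
    have hPQ : (P, Q') ∈ OD := by
      rw [hOD, Finset.mem_filter]
      exact ⟨Finset.mem_univ _, fun hh => hQ' hh.symm⟩
    have hlt : Nat.card {g : G // orderOf g = 2 ∧ g • P = Q'} < e :=
      lt_of_le_of_ne (hterm (P, Q') hPQ) hne
    have hsumlt : ∑ QQ ∈ OD, Nat.card {g : G // orderOf g = 2 ∧ g • QQ.1 = QQ.2} <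
        ∑ _QQ ∈ OD, e :=
      Finset.sum_lt_sum hterm ⟨(P, Q'), hPQ, hlt⟩
    rw [Finset.sum_const, smul_eq_mul, hODcard, hTeq] at hsumlt
    exact lt_irrefl _ hsumlt

end Cfsg.Agent.Helper72.BrPG
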