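import Mathlib
import Cfsg.Agent.Helper77.Br43.PGDefs
import Cfsg.Agent.Helper5.BrPG.W1
import Cfsg.Agent.Helper5.BrPG.W2
import Cfsg.Agent.Helper59.BrPG.W4
import Cfsg.Agent.Helper10.BrPG.W7
import Cfsg.Agent.Helper10.BrPG.W8
import Cfsg.Agent.Helper72.MinDegP3

/-!
# Theorem PG (S0996, helper77), package W9: `|N_G(E)| = (n + 1) e` (PG5c) and
`C_G(w) ≤ N_G(E)` (PG5d).

`_of` versions take PG5a / PG5b as `∀`-closed hypotheses at `P` (as requested by helper77);
the plain versions have the exact skeleton statements (PG5a / PG5b from helper10's W8 on main).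
-/

set_option autoImplicit false
set_option linter.unusedSectionVars false

namespace Cfsg.Agent.Helper72.BrPG

open Cfsg.Agent.Helper77.BrPG
open Cfsg.Agent.Helper5.BrPG
open Cfsg.Agent.Helper59.BrPG
open Cfsg.Agent.Helper10.BrPG
open scoped Pointwise

universe u

variable {G : Type u} [Group G] [Finite G] {p : ℕ} [Fact p.Prime]

/-- a nontrivial element of `E = N(P) ∩ N(Q)`; it lies in `N(P) \ P`. -/
theorem IsBr.W9_exists_mem {P : Sylow p G} {e n : ℕ} (h : IsBr P e n) (Q : Sylow p G)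
    (hQ : Q ≠ P) : ∃ w ∈ Ez P Q, w ≠ 1 ∧ w ∈ Nz P ∧ w ∉ (P : Subgroup G) := by
  have hcard : Nat.card (Ez P Q) = e := h.two Q hQ
  have hne : Ez P Q ≠ ⊥ := by
    intro hbot
    rw [hbot, Subgroup.card_bot] at hcard
    have := h.he
    omega
  obtain ⟨w, hw1⟩ := (Subgroup.ne_bot_iff_exists_ne_one.mp hne)
  have hw1' : (w : G) ≠ 1 := fun hh => hw1 (Subtype.ext hh)
  refine ⟨w, w.2, hw1', w.2.1, ?_⟩
  intro hwP
  have hmem : (w : G) ∈ Ez P Q ⊓ (P : Subgroup G) := ⟨w.2, hwP⟩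
  rw [Ez_inf_eq_bot P h.cardP Q hQ, Subgroup.mem_bot] at hmem
  exact hw1' hmem

/-- (PG5c) with PG5a, PG5b as hypotheses. -/
theorem IsBr.card_normalizer_Ez_of {P : Sylow p G} {e n : ℕ} (h : IsBr P e n)
    (h5a : ∀ Q : Sylow p G, Q ≠ P →
      Subgroup.normalizer ((Ez P Q : Subgroup G) : Set G) ⊓ Nz P = Ez P Q)
    (h5b : ∀ Q : Sylow p G, Q ≠ P → ∀ Q' : Sylow p G, Ez P Q ≤ Nz Q' →
      ∃ l ∈ Subgroup.normalizer ((Ez P Q : Subgroup G) : Set G), l • P = Q')
    (Q : Sylow p G) (hQ : Q ≠ P) :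
    Nat.card (Subgroup.normalizer ((Ez P Q : Subgroup G) : Set G)) = (n + 1) * e := by
  obtain ⟨w, hwE, hw1, hwN, hwP⟩ := IsBr.W9_exists_mem h Q hQ
  set L : Subgroup G := Subgroup.normalizer ((Ez P Q : Subgroup G) : Set G) with hL
  -- orbit-stabiliser for `L` acting on `Syl_p G` at the point `P`
  have hos := Cfsg.Agent.Helper72.MinDeg.P3_card_orbit_mul (G := G) (Ω := Sylow p G) L P
  have hstab : (MulAction.stabilizer G P ⊓ L : Subgroup G) = Ez P Q := by
    rw [Sylow.stabilizer_eq_normalizer, inf_comm]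
    exact h5a Q hQ
  rw [hstab, h.two Q hQ] at hos
  -- the orbit is the fixed point set of `w`
  have horb : MulAction.orbit L P = {Q' : Sylow p G | w ∈ Nz Q'} := by
    ext Q'
    constructor
    · rintro ⟨l, rfl⟩
      show w ∈ Nz ((l : G) • P)
      rw [mem_Nz_smul_iff]
      have hl : (l : G)⁻¹ ∈ L := L.inv_mem l.2
      have := (Subgroup.mem_normalizer_iff.mp hl w).mp hwE
      rw [inv_inv] at this
      exact this.1
    · intro hQ'
      have hle : Ez P Q ≤ Nz Q' := IsBr.Ez_le_of_mem h Q hQ w hwE hw1 Q' hQ'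
      obtain ⟨l, hl, hlP⟩ := h5b Q hQ Q' hle
      exact ⟨⟨l, hl⟩, hlP⟩
  have hcard : Nat.card (MulAction.orbit L P) = n + 1 := by
    rw [horb]
    exact IsBr.card_fixed h w hwN hwP
  rw [hcard] at hos
  exact hos.symm

/-- (PG5d), needs only PG3c. -/
theorem IsBr.centralizer_le_normalizer_Ez {P : Sylow p G} {e n : ℕ} (h : IsBr P e n)
    (Q : Sylow p G) (hQ : Q ≠ P) (w : G) (hw : w ∈ Ez P Q) (hw1 : w ≠ 1) :
    Subgroup.centralizer ({w} : Set G) ≤ Subgroup.normalizer ((Ez P Q : Subgroup G) : Set G) := by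
  -- for `c` commuting with `w`, `c⁻¹ E c ≤ E`
  have key : ∀ c : G, c * w = w * c → ∀ x ∈ Ez P Q, c⁻¹ * x * c ∈ Ez P Q := by
    intro c hc x hx
    have hcw : c⁻¹ * w * c = w := by
      calc c⁻¹ * w * c = c⁻¹ * (w * c) := by group
        _ = c⁻¹ * (c * w) := by rw [hc]
        _ = w := by group
    have hwP : w ∈ Nz (c • P) := by
      rw [mem_Nz_smul_iff, hcw]; exact hw.1
    have hwQ : w ∈ Nz (c • Q) := by
      rw [mem_Nz_smul_iff, hcw]; exact hw.2
    have h1 : Ez P Q ≤ Nz (c • P) := IsBr.Ez_le_of_mem h Q hQ w hw hw1 _ hwP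
    have h2 : Ez P Q ≤ Nz (c • Q) := IsBr.Ez_le_of_mem h Q hQ w hw hw1 _ hwQ
    exact ⟨(mem_Nz_smul_iff c x P).mp (h1 hx), (mem_Nz_smul_iff c x Q).mp (h2 hx)⟩
  intro c hc
  rw [Subgroup.mem_centralizer_singleton_iff] at hc
  have hc' : c⁻¹ * w = w * c⁻¹ := by
    calc c⁻¹ * w = c⁻¹ * (w * c) * c⁻¹ := by group
      _ = c⁻¹ * (c * w) * c⁻¹ := by rw [hc]
      _ = w * c⁻¹ := by group
  rw [Subgroup.mem_normalizer_iff]
  intro x
  constructor
  · intro hx
    have := key c⁻¹ hc' x hx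
    rw [inv_inv] at this
    exact this
  · intro hx
    have := key c hc _ hx
    have e : c⁻¹ * (c * x * c⁻¹) * c = x := by group
    rw [e] at this
    exact this

/-- (PG5c), exact skeleton statement (PG5a, PG5b from helper10's W8). -/
theorem IsBr.card_normalizer_Ez {P : Sylow p G} {e n : ℕ} (h : IsBr P e n) (Q : Sylow p G)
    (hQ : Q ≠ P) :
    Nat.card (Subgroup.normalizer ((Ez P Q : Subgroup G) : Set G)) = (n + 1) * e :=
  IsBr.card_normalizer_Ez_of h (fun Q hQ => IsBr.normalizer_Ez_inf h Q hQ)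
    (fun Q hQ Q' hQ' => IsBr.exists_mem_normalizer_Ez h Q hQ Q' hQ') Q hQ

end Cfsg.Agent.Helper72.BrPG
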